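import Cfsg.Agent.Lib.TorusCentral.Abstract
import Cfsg.Agent.Lib.Classical.SL
import Cfsg.Agent.Lib.Classical.UnitaryStd
import Cfsg.Agent.Lib.PSU3Index.Orbit
import Cfsg.Agent.Lib.PSU3Index.Data

/-!
The rank one data for `SL₂(q)` and `SU₃(q)` in characteristic different from 2 and 3.
-/

set_option autoImplicit false
set_option linter.unusedSectionVars false
set_option linter.style.haveILetI false

namespace Cfsg.Agent.TorusCentral

open Matrix

section Two

variable {F : Type*} [Field F] [Fintype F] {p : ℕ} [hp : Fact p.Prime] [CharP F p]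

local notation "SL2" => SpecialLinearGroup (Fin 2) F

/-- The upper unipotent element. -/
def upEl (t : F) : SL2 := ⟨!![1, t; 0, 1], by simp [det_fin_two]⟩

/-- The upper unipotent group. -/
def upGp : Subgroup SL2 where
  carrier := {A | ∃ t : F, A = upEl t}
  one_mem' := ⟨0, Subtype.ext (by ext i j; fin_cases i <;> fin_cases j <;> simp [upEl])⟩
  mul_mem' := by
    rintro _ _ ⟨a, rfl⟩ ⟨b, rfl⟩
    exact ⟨a + b, Subtype.ext (by
      show (upEl a).1 * (upEl b).1 = _
      ext i j; fin_cases i <;> fin_cases j <;> simp [upEl, Matrix.mul_fin_two, add_comm])⟩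
  inv_mem' := by
    rintro _ ⟨a, rfl⟩
    refine ⟨-a, inv_eq_of_mul_eq_one_right (Subtype.ext ?_)⟩
    show (upEl a).1 * (upEl (-a)).1 = _
    ext i j; fin_cases i <;> fin_cases j <;> simp [upEl, Matrix.mul_fin_two]

theorem vMul (x y : SL2) : (x * y).1 = x.1 * y.1 := rfl

theorem vInv (x : SL2) : (x⁻¹).1 = x.1.adjugate := rfl

theorem vPow (x : SL2) (n : ℕ) : (x ^ n).1 = x.1 ^ n := rfl

theorem vOne : (1 : SL2).1 = 1 := rfl

theorem sl2_det' (A : SL2) : A.1 0 0 * A.1 1 1 - A.1 0 1 * A.1 1 0 = 1 := by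
  rw [← det_fin_two]; exact A.2

theorem up_conj_entry (A B : SL2) (t : F) :
    (B⁻¹ * upEl t * A).1 1 0 = (B.1 0 0 * A.1 1 0 - B.1 1 0 * A.1 0 0) - B.1 1 0 * t * A.1 1 0 := by
  show ((B⁻¹).1 * (upEl t).1 * A.1) 1 0 = _
  rw [vInv, adjugate_fin_two]
  simp [upEl, Matrix.mul_apply, Fin.sum_univ_two]
  ring

theorem mem_normalizer_upGp {A : SL2} :
    A ∈ Subgroup.normalizer ((upGp : Subgroup SL2) : Set SL2) ↔ A.1 1 0 = 0 := by
  constructor
  · intro h
    have h1 := (Subgroup.mem_normalizer_iff.1 h (upEl 1)).1 ⟨1, rfl⟩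
    obtain ⟨s, hs⟩ := h1
    have h2 := congrArg (fun M : SL2 => M.1 1 0) hs
    rw [vMul, vMul, vInv, adjugate_fin_two] at h2
    simp [upEl, Matrix.mul_apply, Fin.sum_univ_two] at h2
    have hd := sl2_det' A
    have h3 : A.1 1 0 * A.1 1 0 = 0 := by linear_combination -h2
    exact mul_self_eq_zero.1 h3
  · intro hc
    have hfwd : ∀ B : SL2, B.1 1 0 = 0 → ∀ u ∈ (upGp : Subgroup SL2), B * u * B⁻¹ ∈ (upGp : Subgroup SL2) := by
      rintro B hB _ ⟨t, rfl⟩
      refine ⟨t * B.1 0 0 * B.1 0 0, Subtype.ext ?_⟩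
      show B.1 * (upEl t).1 * (B⁻¹).1 = _
      rw [vInv, adjugate_fin_two]
      have hd := sl2_det' B
      rw [hB, mul_zero, sub_zero] at hd
      ext i j
      fin_cases i <;> fin_cases j <;> simp [upEl, Matrix.mul_apply, Fin.sum_univ_two, hB]
      · linear_combination hd
      · ring
      · linear_combination hd
    refine Subgroup.mem_normalizer_iff.2 fun u => ⟨hfwd A hc u, fun hu => ?_⟩
    have hi : (A⁻¹).1 1 0 = 0 := by
      rw [vInv, adjugate_fin_two]; simp [hc]
    simpa [mul_assoc] using hfwd A⁻¹ hi _ hu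

/-- The torus element. -/
def tEl (h : (2 : F) ≠ 0) : SL2 := ⟨!![2, 0; 0, 2⁻¹], by simp [det_fin_two, h]⟩

theorem tEl_val (h : (2 : F) ≠ 0) : (tEl h).1 = !![2, 0; 0, 2⁻¹] := rfl

theorem good_sl2 (h2 : p ≠ 2) : Good p (upGp : Subgroup SL2) := by
  have hupmem : ∀ t : F, upEl t ∈ (upGp : Subgroup SL2) := fun t => ⟨t, rfl⟩
  have hpow : ∀ (t : F) (n : ℕ), upEl t ^ n = upEl ((n : F) * t) := fun t n => by
    induction n with
    | zero =>
      rw [pow_zero]
      exact Subtype.ext (by rw [vOne]; ext i j; fin_cases i <;> fin_cases j <;> simp [upEl])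
    | succ n ih =>
      rw [pow_succ, ih]
      refine Subtype.ext ?_
      show (upEl ((n : F) * t)).1 * (upEl t).1 = _
      ext i j
      fin_cases i <;> fin_cases j <;> simp [upEl, Matrix.mul_fin_two]
      ring
  refine ⟨?_, ?_, ?_, ?_, ?_, ?_, ?_⟩
  · rintro ⟨_, t, rfl⟩
    refine ⟨1, Subtype.ext ?_⟩
    show upEl t ^ p ^ 1 = 1
    rw [hpow, pow_one, CharP.cast_eq_zero F p, zero_mul]
    exact Subtype.ext (by ext i j; fin_cases i <;> fin_cases j <;> simp [upEl])
  · intro A hA hk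
    obtain ⟨k, hk⟩ := hk
    have hc := mem_normalizer_upGp.1 hA
    have hpow00 : ∀ n : ℕ, (A ^ n).1 0 0 = A.1 0 0 ^ n ∧ (A ^ n).1 1 0 = 0 := fun n => by
      induction n with
      | zero => rw [pow_zero, vOne]; simp
      | succ n ih =>
        rw [pow_succ, vMul, Matrix.mul_apply, Matrix.mul_apply, Fin.sum_univ_two, Fin.sum_univ_two,
          ih.1, ih.2, hc, pow_succ]
        constructor <;> ring
    have h1 : A.1 0 0 ^ p ^ k = 1 := by rw [← (hpow00 _).1, hk, vOne]; simp
    have h3 : (A.1 0 0 - 1) ^ p ^ k = 0 := by rw [sub_pow_char_pow, h1, one_pow, sub_self]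
    have ha : A.1 0 0 = 1 := sub_eq_zero.1 ((pow_eq_zero_iff (pow_ne_zero k hp.out.ne_zero)).1 h3)
    refine ⟨A.1 0 1, Subtype.ext ?_⟩
    have hd := sl2_det' A
    rw [ha, hc, one_mul, mul_zero, sub_zero] at hd
    ext i j
    fin_cases i <;> fin_cases j <;> simp [upEl, ha, hc, hd]
  · exact ⟨⟨!![0, -1; 1, 0], by simp [det_fin_two]⟩, fun h => by simpa using mem_normalizer_upGp.1 h⟩
  · intro A B hA hB
    have hA' : A.1 1 0 ≠ 0 := fun e => hA (mem_normalizer_upGp.2 e)
    have hB' : B.1 1 0 ≠ 0 := fun e => hB (mem_normalizer_upGp.2 e)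
    refine ⟨_, hupmem (B.1 0 0 / B.1 1 0 - A.1 0 0 / A.1 1 0), mem_normalizer_upGp.2 ?_⟩
    rw [up_conj_entry]
    field_simp
    ring
  · rintro A hA _ ⟨t, rfl⟩ h
    have hA' : A.1 1 0 ≠ 0 := fun e => hA (mem_normalizer_upGp.2 e)
    have h' := mem_normalizer_upGp.1 h
    rw [up_conj_entry] at h'
    have h3 : t * (A.1 1 0 * A.1 1 0) = 0 := by linear_combination -h'
    rw [(mul_eq_zero.1 h3).resolve_right (mul_ne_zero hA' hA')]
    exact Subtype.ext (by ext i j; fin_cases i <;> fin_cases j <;> simp [upEl])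
  · intro N hN hle
    rw [eq_top_iff, ← ClassicalSL.closure_elemTransvections (ι := Fin 2) (F := F), Subgroup.closure_le]
    rintro A ⟨i, j, hij, c, rfl⟩
    have hup : ∀ c : F, SpecialLinearGroup.transvection (show (0 : Fin 2) ≠ 1 by decide) c ∈ N := fun c => by
      refine hle ⟨c, Subtype.ext ?_⟩
      ext a b
      fin_cases a <;> fin_cases b <;> simp [upEl, SpecialLinearGroup.transvection, Matrix.transvection]
    fin_cases i <;> fin_cases j
    · exact absurd rfl hij
    · exact hup c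
    · have hconj := hN.conj_mem _ (hle (hupmem (-c))) (⟨!![0, -1; 1, 0], by simp [det_fin_two]⟩ : SL2)
      obtain ⟨w, hw⟩ : ∃ w : SL2, w = ⟨!![0, -1; 1, 0], by simp [det_fin_two]⟩ := ⟨_, rfl⟩
      rw [← hw] at hconj
      have hwv : w.1 = !![0, -1; 1, 0] := by rw [hw]
      have heq : (SpecialLinearGroup.transvection hij c : SL2) = w * upEl (-c) * w⁻¹ := by
        refine Subtype.ext ?_
        rw [vMul, vMul, vInv, hwv, adjugate_fin_two]
        ext a b
        fin_cases a <;> fin_cases b <;>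
          simp [upEl, SpecialLinearGroup.transvection, Matrix.transvection, Matrix.mul_apply, Fin.sum_univ_two]
      exact heq ▸ hconj
    · exact absurd rfl hij
  · have h20 : (2 : F) ≠ 0 := fun e => h2 ((Nat.prime_dvd_prime_iff_eq hp.out Nat.prime_two).1
      ((CharP.cast_eq_zero_iff F p 2).1 (by exact_mod_cast e)))
    refine ⟨tEl h20, mem_normalizer_upGp.2 (by simp [tEl_val]), ?_, ?_⟩
    · rintro u hu
      refine Subgroup.mem_centralizer_iff.2 fun w hw => ?_
      have hmem : ∀ t : SL2, t.1 1 0 = 0 → t * u * t⁻¹ * (u ^ 2)⁻¹ ∈ (upGp : Subgroup SL2) := fun t ht =>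
        mul_mem ((Subgroup.mem_normalizer_iff.1 (mem_normalizer_upGp.2 ht) u).1 hu) (inv_mem (pow_mem hu 2))
      obtain ⟨a, ha⟩ := hmem (tEl h20) (by simp [tEl_val])
      obtain ⟨b, rfl⟩ := hw
      rw [ha]
      refine Subtype.ext ?_
      show (upEl b).1 * (upEl a).1 = (upEl a).1 * (upEl b).1
      ext i j
      fin_cases i <;> fin_cases j <;> simp [upEl, Matrix.mul_fin_two, add_comm]
    · rintro _ ⟨t, rfl⟩ -
      rw [hpow]
      refine Subtype.ext ?_
      rw [vMul, vMul, vInv, tEl_val, adjugate_fin_two]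
      ext i j
      fin_cases i <;> fin_cases j <;> simp [upEl, Matrix.mul_apply, Fin.sum_univ_two, h20]
      field_simp
      ring

end Two

section Three

open PSU3Index
open SU3Root (uu ww dd)

variable {F : Type*} [Field F] [Fintype F] {q p : ℕ} [hp : Fact p.Prime] [CharP F p]

local notation "M3" => Matrix (Fin 3) (Fin 3) F

theorem normalizer_rad (C : Ctx F q) :
    Subgroup.normalizer ((rad C : Subgroup (Cfsg.SU 3 F q)) : Set (Cfsg.SU 3 F q)) = borel C := by
  refine le_antisymm (fun g hg => ?_) fun g hg => Subgroup.mem_normalizer_iff.2 fun u =>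
    ⟨rad_conj C hg, fun hu => by simpa [mul_assoc] using rad_conj C (inv_mem hg) hu⟩
  by_contra hgB
  have hcard : 1 < Nat.card (rad C) := by
    rw [card_rad]; exact Nat.one_lt_pow three_ne_zero (q_two_le C)
  obtain ⟨u, hu, hu1⟩ : ∃ u ∈ rad C, u ≠ 1 := by
    haveI : Nontrivial (rad C) := (Finite.one_lt_card_iff_nontrivial).1 hcard
    obtain ⟨u, hu⟩ := exists_ne (1 : rad C)
    exact ⟨u, u.2, fun e => hu (Subtype.ext e)⟩
  have h1 := (Subgroup.mem_normalizer_iff.1 hg u).1 hu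
  have h2 : (g * u * g⁻¹) • base C = base C := (smul_base_eq_iff C).2 h1.1
  refine hu1 (rad_eq_one C hu (x := g⁻¹ • base C) (fun e => hgB ?_) ?_)
  · simpa using inv_mem ((smul_base_eq_iff C).1 e)
  · rw [eq_inv_smul_iff, ← mul_smul, ← mul_smul]
    exact h2

theorem good_su3 (C : Ctx F q) (h2 : p ≠ 2) (hq : 3 ≤ q) : Good p (rad C) := by
  have hN := normalizer_rad C
  have h20 : (2 : F) ≠ 0 := fun e => h2 ((Nat.prime_dvd_prime_iff_eq hp.out Nat.prime_two).1
    ((CharP.cast_eq_zero_iff F p 2).1 (by exact_mod_cast e)))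
  have hqp : ∃ a, q = p ^ a := by
    obtain ⟨r, a, hr, -, hqa, hch⟩ := exists_prime_pow C
    exact ⟨a, CharP.eq F hch ‹CharP F p› ▸ hqa⟩
  obtain ⟨a, hqa⟩ := hqp
  refine ⟨isPGroup_rad C hqa, ?_, ⟨wEl C, hN ▸ wEl_not_mem C⟩, ?_, ?_, ?_, ?_⟩
  · intro x hx hk
    rw [hN] at hx
    obtain ⟨k, hk⟩ := hk
    refine ⟨hx, ?_⟩
    have e := map_pow (lam C) ⟨x, hx⟩ (p ^ k)
    rw [show (⟨x, hx⟩ : borel C) ^ p ^ k = 1 from Subtype.ext hk, map_one] at e
    have h1 : (lam C ⟨x, hx⟩ - 1) ^ p ^ k = 0 := by rw [sub_pow_char_pow, ← e, one_pow, sub_self]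
    exact sub_eq_zero.1 ((pow_eq_zero_iff (pow_ne_zero k hp.out.ne_zero)).1 h1)
  · intro g h hg hh
    rw [hN] at hg hh ⊢
    obtain ⟨a, b, e, hg'⟩ := bruhat C hg
    obtain ⟨c, d, e', hh'⟩ := bruhat C hh
    refine ⟨uEl C c d e' * (uEl C a b e)⁻¹, mul_mem (uEl_mem_rad C e') (inv_mem (uEl_mem_rad C e)), ?_⟩
    have := mul_mem (inv_mem hh') hg'
    rwa [show ((uEl C c d e' * wEl C)⁻¹ * h)⁻¹ * ((uEl C a b e * wEl C)⁻¹ * g) =
      h⁻¹ * (uEl C c d e' * (uEl C a b e)⁻¹) * g by group] at this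
  · intro g hg u hu h
    rw [hN] at hg h
    refine rad_eq_one C hu (x := g • base C) (fun e => hg ((smul_base_eq_iff C).1 e)) ?_
    rw [← mul_smul, smul_base_eq_smul, show (u * g)⁻¹ * g = (g⁻¹ * u * g)⁻¹ by group]
    exact inv_mem h
  · intro N hNn hle
    have hF : Fintype.card F = q ^ 2 := by rw [← Nat.card_eq_fintype_card, card_F C]
    obtain ⟨τ, -, hf, hqτ⟩ := UnitaryStd.exists_setup (n := 3) hF (by omega)
    haveI : IsSimpleGroup (Cfsg.PSU 3 F q) :=
      UnitaryStd.isSimpleGroup_psu hf le_rfl fun _ => by rw [hqτ]; exact hq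
    have hperf : commutator (Cfsg.SU 3 F q) = ⊤ := by
      rw [eq_top_iff, ← UnitaryStd.closure_eq_top hf le_rfl fun _ => by rw [hqτ]; exact hq, Subgroup.closure_le]
      rintro A ⟨v, c, hv, hA⟩
      rw [commutator_eq_closure]
      exact Subgroup.subset_closure (UnitaryStd.mem_commutatorSet hf le_rfl A hv hA)
    let π : Cfsg.SU 3 F q →* Cfsg.PSU 3 F q := QuotientGroup.mk' (Subgroup.center (Cfsg.SU 3 F q))
    haveI := hNn
    rcases (hNn.map π (QuotientGroup.mk'_surjective _)).eq_bot_or_eq_top with h | h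
    · exfalso
      have hZ : N ≤ Subgroup.center (Cfsg.SU 3 F q) := fun x hx =>
        (QuotientGroup.eq_one_iff x).1 (Subgroup.mem_bot.1 (h ▸ Subgroup.mem_map_of_mem π hx))
      have hw : ∀ u ∈ rad C, u = 1 := fun u hu => by
        refine rad_eq_one C hu (x := wEl C • base C) (fun e => wEl_not_mem C ((smul_base_eq_iff C).1 e)) ?_
        rw [← mul_smul, ← Subgroup.mem_center_iff.1 (hZ (hle hu)) (wEl C), mul_smul,
          (smul_base_eq_iff C).2 hu.1]
      have hc := card_rad C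
      have h1 : rad C = ⊥ := eq_bot_iff.2 fun u hu => hw u hu
      rw [h1, Subgroup.card_bot] at hc
      have := Nat.one_lt_pow three_ne_zero (q_two_le C)
      omega
    · rw [eq_top_iff, ← hperf, commutator_eq_closure, Subgroup.closure_le]
      rintro _ ⟨x, y, rfl⟩
      have hx : ∀ x, ∃ n ∈ N, x⁻¹ * n ∈ Subgroup.center (Cfsg.SU 3 F q) := fun x => by
        obtain ⟨n, hn, e⟩ := (h ▸ Subgroup.mem_top (π x) : π x ∈ N.map π)
        exact ⟨n, hn, QuotientGroup.eq.1 e.symm⟩
      obtain ⟨n, hn, hc⟩ := hx x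
      obtain ⟨z, hz, rfl⟩ : ∃ z ∈ Subgroup.center (Cfsg.SU 3 F q), x = n * z :=
        ⟨_, inv_mem hc, by group⟩
      show n * z * y * (n * z)⁻¹ * y⁻¹ ∈ N
      rw [mul_assoc n z y, ← Subgroup.mem_center_iff.1 hz y,
        show n * (y * z) * (n * z)⁻¹ * y⁻¹ = n * (y * n⁻¹ * y⁻¹) by group]
      exact mul_mem hn (hNn.conj_mem _ (inv_mem hn) y)
  · refine ⟨dEl C 2 h20, hN ▸ dEl_mem C h20, ?_, ?_⟩
    · intro u hu
      obtain ⟨a, b, h, rfl⟩ := rad_form C hu
      obtain ⟨e, he⟩ : ∃ e, e = 2 * b + C.σ a * a := ⟨_, rfl⟩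
      have he0 : e + C.σ e + 0 * C.σ 0 = 0 := by
        rw [he, map_add, map_mul, map_mul, C.hinv, map_ofNat, zero_mul]
        linear_combination 2 * h
      have key : dEl C 2 h20 * uEl C a b h * (dEl C 2 h20)⁻¹ * (uEl C a b h ^ 2)⁻¹ = uEl C 0 e he0 := by
        rw [mul_inv_eq_iff_eq_mul, mul_inv_eq_iff_eq_mul]
        refine mat_inj C ?_
        rw [pow_two, mat_mul, mat_mul, mat_mul, mat_mul, mat_dEl, mat_uEl, mat_uEl, uu_mul, uu_mul,
          dd_uu C h20]
        congr 2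
        · simp [mu, map_ofNat]; field_simp; ring
        · simp [nu, he, map_ofNat]; ring
      rw [key]
      refine Subgroup.mem_centralizer_iff.2 fun w hw => ?_
      obtain ⟨c, d, h', rfl⟩ := rad_form C hw
      refine mat_inj C ?_
      rw [mat_mul, mat_mul, mat_uEl, mat_uEl, uu_mul, uu_mul]
      congr 1
      · ring
      · simp; ring
    · intro u hu hc
      obtain ⟨a, b, h, rfl⟩ := rad_form C hu
      have ha : a = 0 := by
        have hexists : ∀ c : F, ∃ d, d + C.σ d + c * C.σ c = 0 := fun c => by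
          refine ⟨-(c * C.σ c) / 2, ?_⟩
          rw [map_div₀, map_neg, map_mul, C.hinv, map_ofNat]
          field_simp
          ring
        have hcomm : ∀ c : F, C.σ c * a = C.σ a * c := fun c => by
          obtain ⟨d, hd⟩ := hexists c
          have h1 := congrArg (fun g => mat C g 0 2)
            (Subgroup.mem_centralizer_iff.1 hc _ (uEl_mem_rad C hd))
          simp only [mat_mul, mat_uEl, uu_mul] at h1
          simp [uu] at h1
          linear_combination -h1
        by_contra ha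
        apply C.hne
        ext c
        have h1 := hcomm 1
        rw [map_one, one_mul, mul_one] at h1
        have h3 := hcomm c
        rw [← h1] at h3
        exact mul_right_cancel₀ ha (h3.trans (mul_comm a c))
      subst ha
      refine mat_inj C ?_
      rw [pow_succ, pow_succ, pow_succ, pow_one, mat_mul, mat_mul, mat_mul, mat_mul, mat_mul, mat_uEl,
        mat_dEl, dd_uu C h20, mul_assoc (uu C.σ _ _), ← mat_dEl C h20, mat_mul_inv, mul_one, uu_mul, uu_mul,
        uu_mul]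
      congr 1
      · simp
      · simp [nu, map_ofNat]; ring

end Three

end Cfsg.Agent.TorusCentral
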