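import Mathlib.GroupTheory.Sylow
import Mathlib.GroupTheory.Nilpotent
import Cfsg.Agent.Lib.LocalEven.Basic

/-!
Groups with a split pair of rank one and a torus element acting without fixed points on the
unipotent radical: in an overgroup with trivial `p`-core, no nontrivial `p`-element central in a
Sylow subgroup is centralised by the normalizer of that Sylow subgroup.
-/

set_option autoImplicit false
set_option linter.unusedSectionVars false
set_option linter.style.haveILetI false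

namespace Cfsg.Agent.TorusCentral

open Subgroup

/-- The data of the rank one structure used here. -/
structure Good (p : ℕ) {X : Type*} [Group X] (U : Subgroup X) : Prop where
  isP : IsPGroup p ↥U
  pN : ∀ x ∈ normalizer (U : Set X), (∃ k : ℕ, x ^ p ^ k = 1) → x ∈ U
  proper : ∃ g : X, g ∉ normalizer (U : Set X)
  trans : ∀ g h : X, g ∉ normalizer (U : Set X) → h ∉ normalizer (U : Set X) →
    ∃ u ∈ U, h⁻¹ * u * g ∈ normalizer (U : Set X)
  free : ∀ g : X, g ∉ normalizer (U : Set X) → ∀ u ∈ U, g⁻¹ * u * g ∈ normalizer (U : Set X) → u = 1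
  gen : ∀ N : Subgroup X, N.Normal → U ≤ N → N = ⊤
  torus : ∃ t ∈ normalizer (U : Set X), (∀ u ∈ U, t * u * t⁻¹ * (u ^ 2)⁻¹ ∈ centralizer (U : Set X)) ∧
    ∀ z ∈ U, z ∈ centralizer (U : Set X) → t * z * t⁻¹ = z ^ 4

variable {p : ℕ} [hp : Fact p.Prime] {X : Type*} [Group X] [Finite X] {U : Subgroup X}

theorem Good.eq_of_le (G : Good p U) {Q : Subgroup X} (hQ : IsPGroup p ↥Q) (hUQ : U ≤ Q) : Q = U := by
  by_contra hne
  haveI : Group.IsNilpotent ↥Q := hQ.isNilpotent
  have hlt : U.subgroupOf Q < ⊤ := lt_top_iff_ne_top.2 fun h =>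
    hne (le_antisymm (subgroupOf_eq_top.1 h) hUQ)
  obtain ⟨x, hxN, hx⟩ := SetLike.exists_of_lt (normalizerCondition_of_isNilpotent _ hlt)
  refine hx (mem_subgroupOf.2 (G.pN _ ?_ ?_))
  · refine mem_normalizer_iff.2 fun u => ?_
    constructor
    · intro hu
      have := (mem_normalizer_iff.1 hxN ⟨u, hUQ hu⟩).1 (mem_subgroupOf.2 hu)
      simpa [mem_subgroupOf] using this
    · intro hu
      have huQ : u ∈ Q := by
        have := Q.mul_mem (Q.mul_mem (Q.inv_mem x.2) (hUQ hu)) x.2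
        simpa [mul_assoc] using this
      have := (mem_normalizer_iff.1 hxN ⟨u, huQ⟩).2 (by simpa [mem_subgroupOf] using hu)
      simpa [mem_subgroupOf] using this
  · obtain ⟨k, hk⟩ := hQ x
    exact ⟨k, by simpa using congrArg Subtype.val hk⟩

/-- A central `p`-element is trivial. -/
theorem Good.eq_one_of_central (G : Good p U) {z : X} (hz : z ∈ center X)
    (hk : ∃ k : ℕ, z ^ p ^ k = 1) : z = 1 := by
  have hzN : z ∈ normalizer (U : Set X) := mem_normalizer_iff.2 fun u => by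
    rw [← mem_center_iff.1 hz u, mul_inv_cancel_right]
  obtain ⟨g, hg⟩ := G.proper
  refine G.free g hg z (G.pN z hzN hk) ?_
  rwa [mul_assoc, ← mem_center_iff.1 hz g, inv_mul_cancel_left]

/-- The elements mapping every point to itself. -/
theorem Good.central_of_kernel (G : Good p U) {k : X}
    (hk : ∀ g : X, g⁻¹ * k * g ∈ normalizer (U : Set X)) : k ∈ center X := by
  obtain ⟨g0, hg0⟩ := G.proper
  let K : Subgroup X :=
    { carrier := {k | ∀ g : X, g⁻¹ * k * g ∈ normalizer (U : Set X)}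
      one_mem' := fun g => by simp
      mul_mem' := fun {a b} ha hb g => by
        have e : g⁻¹ * (a * b) * g = (g⁻¹ * a * g) * (g⁻¹ * b * g) := by group
        rw [e]; exact mul_mem (ha g) (hb g)
      inv_mem' := fun {a} ha g => by
        have e : g⁻¹ * a⁻¹ * g = (g⁻¹ * a * g)⁻¹ := by group
        rw [e]; exact inv_mem (ha g) }
  haveI hKn : K.Normal := ⟨fun a ha x g => by
    have e : g⁻¹ * (x * a * x⁻¹) * g = (x⁻¹ * g)⁻¹ * a * (x⁻¹ * g) := by group
    rw [e]; exact ha _⟩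
  have hKU : K ≤ centralizer (U : Set X) := fun a ha => mem_centralizer_iff.2 fun u hu => by
    have haN : a ∈ normalizer (U : Set X) := by simpa using ha 1
    have h1 : a * u * a⁻¹ * u⁻¹ ∈ U := mul_mem ((mem_normalizer_iff.1 haN u).1 hu) (inv_mem hu)
    have h2 : a * u * a⁻¹ * u⁻¹ ∈ K := by
      rw [show a * u * a⁻¹ * u⁻¹ = a * (u * a⁻¹ * u⁻¹) by group]
      exact mul_mem ha (hKn.conj_mem _ (inv_mem ha) u)
    have h3 := G.free g0 hg0 _ h1 (h2 g0)
    rw [mul_inv_eq_one, mul_inv_eq_iff_eq_mul] at h3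
    exact h3.symm
  have htop : centralizer (K : Set X) = ⊤ := G.gen _ inferInstance fun u hu =>
    mem_centralizer_iff.2 fun a ha => (mem_centralizer_iff.1 (hKU ha) u hu).symm
  exact mem_center_iff.2 fun x => (mem_centralizer_iff.1 (htop ▸ mem_top x) k (show k ∈ K from hk)).symm

/-- An automorphism fixing the radical pointwise and commuting with a fixed-point-free one is trivial. -/
theorem Good.rigid (G : Good p U) (a b : MulAut X) (haU : ∀ u : X, a u ∈ U ↔ u ∈ U)
    (hbU : ∀ u ∈ U, b u = u) (hab : ∀ x, a (b x) = b (a x)) (hfpf : ∀ u ∈ U, a u = u → u = 1) :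
    ∀ x, b x = x := by
  classical
  have hbU' : ∀ u : X, b u ∈ U ↔ u ∈ U := fun u => by
    constructor
    · intro h
      have := hbU _ h
      rwa [b.injective this] at h
    · intro h; rwa [hbU u h]
  have hpres : ∀ (c : MulAut X), (∀ u : X, c u ∈ U ↔ u ∈ U) →
      ∀ g : X, c g ∈ normalizer (U : Set X) ↔ g ∈ normalizer (U : Set X) := fun c hc g => by
    simp only [mem_normalizer_iff]
    constructor
    · intro h u
      rw [← hc u, ← hc (g * u * g⁻¹), map_mul, map_mul, map_inv]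
      exact h (c u)
    · intro h u
      obtain ⟨v, rfl⟩ := c.surjective u
      rw [hc v, ← map_inv, ← map_mul, ← map_mul, hc]
      exact h v
  have haN := hpres a haU
  have hbN := hpres b hbU'
  obtain ⟨g, hg⟩ := G.proper
  obtain ⟨u0, hu0, hu0'⟩ := G.trans (a g) g (fun h => hg ((haN g).1 h)) hg
  have hsur : Function.Surjective (fun u : ↥U => (⟨(u : X)⁻¹ * a u,
      mul_mem (inv_mem u.2) ((haU _).2 u.2)⟩ : ↥U)) := by
    refine Finite.surjective_of_injective fun u v huv => Subtype.ext ?_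
    have h := congrArg Subtype.val huv
    simp only at h
    have h1 : a ((v : X) * (u : X)⁻¹) = (v : X) * (u : X)⁻¹ := by
      rw [inv_mul_eq_iff_eq_mul] at h
      rw [map_mul, map_inv, h]
      group
    have := hfpf _ (mul_mem v.2 (inv_mem u.2)) h1
    exact (mul_inv_eq_one.1 this).symm
  obtain ⟨⟨u, hu⟩, hu'⟩ := hsur ⟨u0, hu0⟩
  have hu'' : u⁻¹ * a u = u0 := congrArg Subtype.val hu'
  obtain ⟨g1, hg1⟩ : ∃ g1, g1 = u * g := ⟨_, rfl⟩
  have hUN : U ≤ normalizer (U : Set X) := le_normalizer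
  have hg1N : g1 ∉ normalizer (U : Set X) := fun h => hg ((Subgroup.mul_mem_cancel_left _ (hUN hu)).1 (hg1 ▸ h))
  have hfix : g1⁻¹ * a g1 ∈ normalizer (U : Set X) := by
    rw [hg1, map_mul, show (u * g)⁻¹ * (a u * a g) = g⁻¹ * (u⁻¹ * a u) * a g by group, hu'']
    exact hu0'
  obtain ⟨v, hv, hv'⟩ := G.trans (b g1) g1 (fun h => hg1N ((hbN g1).1 h)) hg1N
  have hv2 : g1⁻¹ * a v * b g1 ∈ normalizer (U : Set X) := by
    have h1 := (haN _).2 hv'
    rw [map_mul, map_mul, map_inv, hab] at h1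
    obtain ⟨n, hn, hag⟩ : ∃ n ∈ normalizer (U : Set X), a g1 = g1 * n :=
      ⟨_, hfix, by rw [mul_inv_cancel_left]⟩
    rw [hag, map_mul] at h1
    have h2 := mul_mem (mul_mem hn h1) (inv_mem ((hbN n).2 hn))
    rwa [show n * ((g1 * n)⁻¹ * a v * (b g1 * b n)) * (b n)⁻¹ = g1⁻¹ * a v * b g1 by group] at h2
  have hv1 : a v = v := by
    refine mul_inv_eq_one.1 (G.free g1 hg1N _ (mul_mem ((haU v).2 hv) (inv_mem hv)) ?_)
    have h2 := mul_mem hv2 (inv_mem hv')
    rwa [show g1⁻¹ * a v * b g1 * (g1⁻¹ * v * b g1)⁻¹ = g1⁻¹ * (a v * v⁻¹) * g1 by group] at h2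
  have hb1 : g1⁻¹ * b g1 ∈ normalizer (U : Set X) := by
    rw [hfpf v hv hv1, mul_one] at hv'
    exact hv'
  have hall : ∀ x, x⁻¹ * b x ∈ normalizer (U : Set X) := fun x => by
    by_cases hx : x ∈ normalizer (U : Set X)
    · exact mul_mem (inv_mem hx) ((hbN x).2 hx)
    obtain ⟨w, hw, hw'⟩ := G.trans g1 x hg1N hx
    obtain ⟨n, hn, rfl⟩ : ∃ n ∈ normalizer (U : Set X), x = w * g1 * n :=
      ⟨_, inv_mem hw', by group⟩
    rw [map_mul, map_mul, hbU w hw,
      show (w * g1 * n)⁻¹ * (w * b g1 * b n) = n⁻¹ * (g1⁻¹ * b g1) * b n by group]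
    exact mul_mem (mul_mem (inv_mem hn) hb1) ((hbN n).2 hn)
  have hcen : ∀ x, x⁻¹ * b x ∈ center X := fun x => G.central_of_kernel fun g => by
    have h2 := mul_mem (hall (x * g)) (inv_mem (hall g))
    rwa [map_mul, show (x * g)⁻¹ * (b x * b g) * (g⁻¹ * b g)⁻¹ = g⁻¹ * (x⁻¹ * b x) * g by group] at h2
  let M : Subgroup X :=
    { carrier := {x | b x = x}
      one_mem' := map_one b
      mul_mem' := fun {x y} hx hy => by show b _ = _; rw [map_mul, hx, hy]
      inv_mem' := fun {x} hx => by show b _ = _; rw [map_inv, hx] }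
  have hMn : M.Normal := ⟨fun x hx y => by
    show b _ = _
    rw [map_mul, map_mul, map_inv, (hx : b x = x)]
    obtain ⟨c, hc, hby⟩ : ∃ c ∈ center X, b y = y * c := ⟨_, hcen y, by rw [mul_inv_cancel_left]⟩
    rw [hby, mul_assoc y c x, ← mem_center_iff.1 hc x]
    group⟩
  exact fun x => (G.gen M hMn hbU ▸ mem_top x : x ∈ M)

theorem Good.map {Y : Type*} [Group Y] (G : Good p U) (f : X →* Y) (hf : Function.Surjective f)
    (hker : f.ker ≤ center X) : Good p (U.map f) := by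
  have hk1 : ∀ z ∈ f.ker, (∃ k : ℕ, z ^ p ^ k = 1) → z = 1 :=
    fun z hz hk => G.eq_one_of_central (hker hz) hk
  have hpk : ∀ u ∈ U, ∃ k : ℕ, u ^ p ^ k = 1 := fun u hu => by
    obtain ⟨k, hk⟩ := G.isP ⟨u, hu⟩
    exact ⟨k, by simpa using congrArg Subtype.val hk⟩
  have hinj : ∀ u ∈ U, ∀ v ∈ U, f u = f v → u = v := fun u hu v hv h =>
    mul_inv_eq_one.1 (hk1 _ (MonoidHom.mem_ker.2 (by rw [map_mul, map_inv, h, mul_inv_cancel]))
      (hpk _ (mul_mem hu (inv_mem hv))))
  have hkN : f.ker ≤ normalizer (U : Set X) := fun z hz => mem_normalizer_iff.2 fun u => by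
    rw [← mem_center_iff.1 (hker hz) u, mul_inv_cancel_right]
  have hlift : ∀ y ∈ U.map f, ∀ x, f x = y → (∃ k : ℕ, x ^ p ^ k = 1) → x ∈ U := by
    rintro _ ⟨v, hv, rfl⟩ x hx ⟨k, hk⟩
    obtain ⟨l, hl⟩ := hpk v hv
    have hmem : x * v⁻¹ ∈ f.ker := by
      rw [MonoidHom.mem_ker, map_mul, map_inv, hx, mul_inv_cancel]
    have hc : Commute x v⁻¹ := by
      have h := mem_center_iff.1 (hker hmem) v
      show x * v⁻¹ = v⁻¹ * x
      rw [← inv_mul_cancel_left v (x * v⁻¹), h, inv_mul_cancel_right]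
    have h1 := hk1 _ hmem ⟨k + l, by
      rw [hc.mul_pow, pow_add, pow_mul, hk, one_pow, one_mul, inv_pow, mul_comm (p ^ k), pow_mul, hl,
        one_pow, inv_one]⟩
    rwa [mul_inv_eq_one.1 h1]
  have hN : ∀ x, f x ∈ normalizer ((U.map f : Subgroup Y) : Set Y) ↔ x ∈ normalizer (U : Set X) := by
    intro x
    constructor
    · intro hx
      refine mem_normalizer_iff.2 fun u => ⟨fun hu => ?_, fun hu => ?_⟩
      · have h1 := (mem_normalizer_iff.1 hx (f u)).1 (mem_map_of_mem f hu)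
        rw [← map_inv, ← map_mul, ← map_mul] at h1
        obtain ⟨k, hk⟩ := hpk u hu
        exact hlift _ h1 _ rfl ⟨k, by rw [conj_pow, hk, mul_one, mul_inv_cancel]⟩
      · have h1 : f u ∈ U.map f := (mem_normalizer_iff.1 hx (f u)).2 (by
          rw [← map_inv, ← map_mul, ← map_mul]; exact mem_map_of_mem f hu)
        obtain ⟨k, hk⟩ := hpk _ hu
        rw [conj_pow, mul_inv_eq_one, mul_eq_left] at hk
        exact hlift _ h1 _ rfl ⟨k, hk⟩
    · intro hx
      refine mem_normalizer_iff.2 fun y => ⟨?_, ?_⟩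
      · rintro ⟨u, hu, rfl⟩
        exact ⟨_, (mem_normalizer_iff.1 hx u).1 hu, by simp⟩
      · rintro ⟨u, hu, h⟩
        refine ⟨x⁻¹ * u * x, (mem_normalizer_iff.1 hx _).2 ?_, ?_⟩
        · rwa [show x * (x⁻¹ * u * x) * x⁻¹ = u by group]
        · rw [map_mul, map_mul, map_inv, h]; group
  have hcenU : ∀ z, z ∈ U → (f z ∈ centralizer ((U.map f : Subgroup Y) : Set Y) ↔ z ∈ centralizer (U : Set X)) := by
    intro z hz
    constructor
    · intro h
      refine mem_centralizer_iff.2 fun u hu => hinj _ (mul_mem hu hz) _ (mul_mem hz hu) ?_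
      rw [map_mul, map_mul]
      exact mem_centralizer_iff.1 h _ (mem_map_of_mem f hu)
    · intro h
      refine mem_centralizer_iff.2 ?_
      rintro _ ⟨u, hu, rfl⟩
      rw [← map_mul, ← map_mul, mem_centralizer_iff.1 h u hu]
  refine ⟨G.isP.map f, ?_, ?_, ?_, ?_, ?_, ?_⟩
  · intro y hy hk
    obtain ⟨x, rfl⟩ := hf y
    obtain ⟨k, hk⟩ := hk
    -- replace `x` by a `p`-element in the same coset
    have hmem : x ^ p ^ k ∈ f.ker := by rw [MonoidHom.mem_ker, map_pow, hk]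
    obtain ⟨m, hm⟩ : ∃ m, m = orderOf (x ^ p ^ k) := ⟨_, rfl⟩
    have hcop : Nat.Coprime m p := by
      refine ((hp.out.coprime_iff_not_dvd).2 fun hd => ?_).symm
      obtain ⟨c, hc⟩ := hd
      have hm0 : m ≠ 0 := hm ▸ (orderOf_pos _).ne'
      have hc0 : c ≠ 0 := by rintro rfl; simp at hc; exact hm0 hc
      have h1 := hk1 ((x ^ p ^ k) ^ c) (pow_mem hmem c) ⟨1, by
        rw [pow_one, ← pow_mul, mul_comm, ← hc, hm, pow_orderOf_eq_one]⟩
      have h2 := Nat.le_of_dvd (Nat.pos_of_ne_zero hc0) (hm ▸ orderOf_dvd_of_pow_eq_one h1)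
      have := hp.out.two_le
      nlinarith [Nat.pos_of_ne_zero hc0]
    have hxm : x ^ m ∈ U := G.pN _ (pow_mem ((hN x).1 hy) m) ⟨k, by
      rw [← pow_mul, mul_comm, pow_mul, hm, pow_orderOf_eq_one]⟩
    have hfx : f x ∈ Subgroup.zpowers (f (x ^ m)) := by
      rw [map_pow]
      obtain ⟨n, hn⟩ := exists_pow_eq_self_of_coprime (x := f x) (n := m) (by
        have h3 : orderOf (f x) ∣ p ^ k := orderOf_dvd_of_pow_eq_one hk
        exact Nat.Coprime.coprime_dvd_right h3 (hcop.pow_right k))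
      exact ⟨n, by simpa using hn⟩
    exact (zpowers_le.2 (mem_map_of_mem f hxm)) hfx
  · obtain ⟨g, hg⟩ := G.proper
    exact ⟨f g, fun h => hg ((hN g).1 h)⟩
  · intro g h hg hh
    obtain ⟨g, rfl⟩ := hf g
    obtain ⟨h, rfl⟩ := hf h
    obtain ⟨u, hu, hu'⟩ := G.trans g h (fun e => hg ((hN g).2 e)) (fun e => hh ((hN h).2 e))
    exact ⟨f u, mem_map_of_mem f hu, by rw [← map_inv, ← map_mul, ← map_mul]; exact (hN _).2 hu'⟩
  · rintro g hg _ ⟨u, hu, rfl⟩ h
    obtain ⟨g, rfl⟩ := hf g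
    rw [← map_inv, ← map_mul, ← map_mul] at h
    rw [G.free g (fun e => hg ((hN g).2 e)) u hu ((hN _).1 h), map_one]
  · intro N hNn hle
    have h1 := G.gen (N.comap f) (hNn.comap f) (map_le_iff_le_comap.1 hle)
    exact eq_top_iff.2 fun y _ => by
      obtain ⟨x, rfl⟩ := hf y
      exact mem_comap.1 (h1 ▸ mem_top x)
  · obtain ⟨t, ht, h1, h2⟩ := G.torus
    refine ⟨f t, (hN t).2 ht, ?_, ?_⟩
    · rintro _ ⟨u, hu, rfl⟩
      rw [← map_pow, ← map_inv, ← map_inv, ← map_mul, ← map_mul, ← map_mul]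
      exact (hcenU _ (mul_mem ((mem_normalizer_iff.1 ht u).1 hu) (inv_mem (pow_mem hu 2)))).2 (h1 u hu)
    · rintro _ ⟨z, hz, rfl⟩ hc
      rw [← map_pow, ← map_inv, ← map_mul, ← map_mul, h2 z hz ((hcenU z hz).1 hc)]

end Cfsg.Agent.TorusCentral
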