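import Cfsg.Agent.Lib.TorusCentral.Abstract

/-!
In an overgroup with trivial `p`-core and `p`-group quotient over a group with rank one data, a
`p`-element centralising a Sylow subgroup and its normalizer is trivial (for `p ≠ 3`).
-/

set_option autoImplicit false
set_option linter.unusedSectionVars false
set_option linter.style.haveILetI false

namespace Cfsg.Agent.TorusCentral

open Subgroup

variable {p : ℕ} [hp : Fact p.Prime] {Y : Type*} [Group Y] [Finite Y]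

theorem mem_sylow_of_commute (S : Sylow p Y) {z : Y} (hk : ∃ k : ℕ, z ^ p ^ k = 1)
    (hz : ∀ s ∈ (S : Subgroup Y), z * s = s * z) : z ∈ (S : Subgroup Y) := by
  obtain ⟨k, hk⟩ := hk
  have hzp : IsPGroup p ↥(zpowers z) := fun y => by
    obtain ⟨i, hi⟩ := mem_zpowers_iff.1 y.2
    exact ⟨k, Subtype.ext (by
      rw [coe_pow, ← hi, ← zpow_natCast, ← zpow_mul, mul_comm, zpow_mul, zpow_natCast, hk, one_zpow,
        coe_one])⟩
  have hn : z ∈ normalizer ((S : Subgroup Y) : Set Y) := mem_normalizer_iff.2 fun s =>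
    ⟨fun hs => by rwa [hz s hs, mul_inv_cancel_right], fun hs => by
      have h := hz _ hs
      rw [inv_mul_cancel_right] at h
      have e : z * s * z⁻¹ = s := mul_left_cancel (a := z) h |>.trans rfl
      rwa [e] at hs⟩
  have h : z ∈ zpowers z ⊓ normalizer ((S : Subgroup Y) : Set Y) := ⟨mem_zpowers z, hn⟩
  exact ((IsPGroup.inf_normalizer_sylow hzp S).le h).2

theorem eq_one_of_good (hp3 : p ≠ 3) (hcore : Cfsg.pCore p Y = ⊥) (X : Subgroup Y) [hX : X.Normal]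
    (hquot : IsPGroup p (Y ⧸ X)) {M : Type*} [Group M] [Finite M] {UM : Subgroup M} (hM : Good p UM)
    (e : M →* ↥X) (he : Function.Surjective e) (heker : e.ker ≤ center M) (S : Sylow p Y) {z : Y}
    (hk : ∃ k : ℕ, z ^ p ^ k = 1) (hz : ∀ y ∈ normalizer ((S : Subgroup Y) : Set Y), z * y = y * z) :
    z = 1 := by
  classical
  have hSN : (S : Subgroup Y) ≤ normalizer ((S : Subgroup Y) : Set Y) := le_normalizer
  -- a conjugate of the radical is the trace of `S`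
  have G0 := hM.map e he heker
  obtain ⟨U, hUdef⟩ : ∃ U, U = ((S : Subgroup Y) ⊓ X) := ⟨_, rfl⟩
  have hU0 : IsPGroup p ↥((S : Subgroup Y).subgroupOf X) :=
    S.isPGroup'.comap_of_injective X.subtype X.subtype_injective
  obtain ⟨Q, hQ⟩ := G0.isP.exists_le_sylow
  have hQe : (Q : Subgroup X) = UM.map e := G0.eq_of_le Q.isPGroup' hQ
  obtain ⟨Q', hQ'⟩ := hU0.exists_le_sylow
  have hQ'e : (Q' : Subgroup X) = (S : Subgroup Y).subgroupOf X := by
    refine le_antisymm ?_ hQ'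
    obtain ⟨R, hR⟩ := (Q'.isPGroup'.map X.subtype).exists_le_sylow
    obtain ⟨g, hg⟩ := MulAction.exists_smul_eq Y R S
    have hi : (S : Subgroup Y).subgroupOf X = (Q' : Subgroup X) := by
      refine eq_of_le_of_card_ge hQ' ?_
      have hinj : ∀ q : ↥(Q' : Subgroup X), g * ((q : X) : Y) * g⁻¹ ∈ (S : Subgroup Y) ∧
          g * ((q : X) : Y) * g⁻¹ ∈ X := fun q => by
        refine ⟨?_, hX.conj_mem _ (q : X).2 g⟩
        rw [← hg]
        show _ ∈ ((g • R : Sylow p Y) : Subgroup Y)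
        rw [Sylow.coe_subgroup_smul]
        exact ⟨((q : X) : Y), hR (mem_map_of_mem X.subtype q.2), by simp⟩
      refine Nat.card_le_card_of_injective (fun q : ↥(Q' : Subgroup X) =>
        (⟨⟨g * ((q : X) : Y) * g⁻¹, (hinj q).2⟩, mem_subgroupOf.2 (hinj q).1⟩ :
          ↥((S : Subgroup Y).subgroupOf X))) fun q r h => ?_
      have h' := congrArg (fun t : ↥((S : Subgroup Y).subgroupOf X) => ((t : X) : Y)) h
      exact Subtype.ext (Subtype.ext (mul_left_cancel (mul_right_cancel h')))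
    rw [hi]
  obtain ⟨c, hc⟩ := MulAction.exists_smul_eq X Q Q'
  have G : Good p ((S : Subgroup Y).subgroupOf X) := by
    have h1 := G0.map (MulAut.conj c).toMonoidHom (MulAut.conj c).surjective (by
      rw [(MonoidHom.ker_eq_bot_iff _).2 (MulAut.conj c).injective]; exact bot_le)
    convert h1 using 1
    rw [← hQ'e, ← hc, ← hQe, Sylow.coe_subgroup_smul]
    rfl
  have hU' : ∀ u : X, u ∈ (S : Subgroup Y).subgroupOf X ↔ (u : Y) ∈ U := fun u => by
    rw [mem_subgroupOf, hUdef, mem_inf]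
    exact ⟨fun h => ⟨h, u.2⟩, fun h => h.1⟩
  have hUX : U ≤ X := hUdef ▸ inf_le_right
  have hUS : U ≤ (S : Subgroup Y) := hUdef ▸ inf_le_left
  have hSU : ∀ s ∈ (S : Subgroup Y), s ∈ normalizer (U : Set Y) := fun s hs => by
    have h : ∀ r ∈ (S : Subgroup Y), ∀ u ∈ U, r * u * r⁻¹ ∈ U := fun r hr u hu => by
      rw [hUdef, mem_inf] at hu ⊢
      exact ⟨mul_mem (mul_mem hr hu.1) (inv_mem hr), hX.conj_mem _ hu.2 r⟩
    refine mem_normalizer_iff.2 fun u => ⟨fun hu => h s hs u hu, fun hu => ?_⟩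
    simpa [mul_assoc] using h s⁻¹ (inv_mem hs) _ hu
  obtain ⟨t0, ht0, htA, htB⟩ := G.torus
  -- the conditions on the radical, in the overgroup
  let Z : Subgroup Y := U ⊓ centralizer (U : Set Y)
  let J : ℕ → ℕ → Y → Prop := fun m k y => y ∈ X ∧ y ∈ normalizer (U : Set Y) ∧
    (∀ u ∈ U, y * u * y⁻¹ * (u ^ m)⁻¹ ∈ Z) ∧ ∀ v ∈ Z, y * v * y⁻¹ = v ^ k
  have hNUZ : ∀ y ∈ normalizer (U : Set Y), ∀ v ∈ Z, y * v * y⁻¹ ∈ Z := fun y hy v hv => by
    refine ⟨(mem_normalizer_iff.1 hy v).1 hv.1, mem_centralizer_iff.2 fun u hu => ?_⟩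
    have hu' : y⁻¹ * u * y ∈ U := (mem_normalizer_iff.1 hy _).2 (by
      rwa [show y * (y⁻¹ * u * y) * y⁻¹ = u by group])
    have h := mem_centralizer_iff.1 hv.2 _ hu'
    calc u * (y * v * y⁻¹) = y * (y⁻¹ * u * y * v) * y⁻¹ := by group
      _ = y * (v * (y⁻¹ * u * y)) * y⁻¹ := by rw [h]
      _ = y * v * y⁻¹ * u := by group
  let K : Subgroup Y :=
    { carrier := {y | J 1 1 y}
      one_mem' := ⟨one_mem _, one_mem _, fun u _ => by simp, fun v _ => by simp⟩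
      mul_mem' := fun {a b} ha hb => by
        obtain ⟨ha1, ha2, ha3, ha4⟩ := ha
        obtain ⟨hb1, hb2, hb3, hb4⟩ := hb
        refine ⟨mul_mem ha1 hb1, mul_mem ha2 hb2, fun u hu => ?_, fun v hv => ?_⟩
        · have h1 := hb3 u hu
          have h2 := ha4 _ h1
          have h3 := ha3 u hu
          simp only [pow_one] at h1 h2 h3 ⊢
          have := mul_mem (h2.symm ▸ h1 : a * (b * u * b⁻¹ * u⁻¹) * a⁻¹ ∈ Z) h3
          rwa [show a * (b * u * b⁻¹ * u⁻¹) * a⁻¹ * (a * u * a⁻¹ * u⁻¹) = a * b * u * (a * b)⁻¹ * u⁻¹ by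
            group] at this
        · have h1 := ha4 v hv
          have h2 := hb4 v hv
          simp only [pow_one] at h1 h2 ⊢
          calc a * b * v * (a * b)⁻¹ = a * (b * v * b⁻¹) * a⁻¹ := by group
            _ = v := by rw [h2, h1]
      inv_mem' := fun {a} ha => by
        obtain ⟨ha1, ha2, ha3, ha4⟩ := ha
        refine ⟨inv_mem ha1, inv_mem ha2, fun u hu => ?_, fun v hv => ?_⟩
        · have hu' : a⁻¹ * u * a ∈ U := (mem_normalizer_iff.1 ha2 _).2 (by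
            rwa [show a * (a⁻¹ * u * a) * a⁻¹ = u by group])
          have h1 := inv_mem (ha3 _ hu')
          simp only [pow_one] at h1 ⊢
          rw [show (a * (a⁻¹ * u * a) * a⁻¹ * (a⁻¹ * u * a)⁻¹)⁻¹ = a⁻¹ * u * a⁻¹⁻¹ * u⁻¹ by group] at h1
          exact h1
        · have h1 := ha4 v hv
          simp only [pow_one, inv_inv] at h1 ⊢
          calc a⁻¹ * v * a = a⁻¹ * (a * v * a⁻¹) * a := by rw [h1]
            _ = v := by group }
  have hKN : ∀ n ∈ normalizer (U : Set Y), ∀ y ∈ K, n * y * n⁻¹ ∈ K := fun n hn y hy => by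
    obtain ⟨h1, h2, h3, h4⟩ := hy
    refine ⟨hX.conj_mem _ h1 n, mul_mem (mul_mem hn h2) (inv_mem hn), fun u hu => ?_, fun v hv => ?_⟩
    · have hu' : n⁻¹ * u * n ∈ U := (mem_normalizer_iff.1 hn _).2 (by
        rwa [show n * (n⁻¹ * u * n) * n⁻¹ = u by group])
      have h := hNUZ n hn _ (h3 _ hu')
      simp only [pow_one] at h ⊢
      rwa [show n * (y * (n⁻¹ * u * n) * y⁻¹ * (n⁻¹ * u * n)⁻¹) * n⁻¹ =
        n * y * n⁻¹ * u * (n * y * n⁻¹)⁻¹ * u⁻¹ by group] at h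
    · have hv' := hNUZ n⁻¹ (inv_mem hn) v hv
      rw [inv_inv] at hv'
      have h := h4 _ hv'
      simp only [pow_one] at h ⊢
      calc n * y * n⁻¹ * v * (n * y * n⁻¹)⁻¹ = n * (y * (n⁻¹ * v * n) * y⁻¹) * n⁻¹ := by group
        _ = v := by rw [h]; group
  obtain ⟨t, ht⟩ : ∃ t : Y, t = t0 := ⟨_, rfl⟩
  have hJt : J 2 4 t := by
    subst ht
    have hn : (t0 : Y) ∈ normalizer (U : Set Y) := by
      refine mem_normalizer_iff.2 fun u => ⟨fun hu => ?_, fun hu => ?_⟩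
      · have := (mem_normalizer_iff.1 ht0 ⟨u, hUX hu⟩).1 ((hU' _).2 hu)
        simpa [hU'] using this
      · have huX : u ∈ X := by simpa [mul_assoc] using hX.conj_mem _ (hUX hu) (t0 : Y)⁻¹
        have := (mem_normalizer_iff.1 ht0 ⟨u, huX⟩).2 (by simpa [hU'] using hu)
        simpa [hU'] using this
    refine ⟨t0.2, hn, fun u hu => ⟨mul_mem ((mem_normalizer_iff.1 hn u).1 hu) (U.inv_mem (U.pow_mem hu 2)), ?_⟩,
      fun v hv => ?_⟩
    · refine mem_centralizer_iff.2 fun w hw => ?_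
      have := mem_centralizer_iff.1 (htA ⟨u, hUX hu⟩ ((hU' _).2 hu)) ⟨w, hUX hw⟩ ((hU' _).2 hw)
      simpa using congrArg Subtype.val this
    · have := htB ⟨v, hUX hv.1⟩ ((hU' _).2 hv.1) (mem_centralizer_iff.2 fun w hw => Subtype.ext
        (mem_centralizer_iff.1 hv.2 _ ((hU' w).1 hw)))
      simpa using congrArg Subtype.val this
  have hdiff : ∀ a b : Y, J 2 4 a → J 2 4 b → a * b⁻¹ ∈ K := by
    rintro a b ⟨a1, a2, a3, a4⟩ ⟨b1, b2, b3, b4⟩
    refine ⟨mul_mem a1 (inv_mem b1), mul_mem a2 (inv_mem b2), fun u hu => ?_, fun v hv => ?_⟩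
    · have hu' : b⁻¹ * u * b ∈ U := (mem_normalizer_iff.1 b2 _).2 (by
        rwa [show b * (b⁻¹ * u * b) * b⁻¹ = u by group])
      have h := mul_mem (a3 _ hu') (inv_mem (b3 _ hu'))
      simp only [pow_one]
      rwa [show a * (b⁻¹ * u * b) * a⁻¹ * ((b⁻¹ * u * b) ^ 2)⁻¹ *
          (b * (b⁻¹ * u * b) * b⁻¹ * ((b⁻¹ * u * b) ^ 2)⁻¹)⁻¹ = a * b⁻¹ * u * (a * b⁻¹)⁻¹ * u⁻¹ by
        group] at h
    · have hv' := hNUZ b⁻¹ (inv_mem b2) v hv
      rw [inv_inv] at hv'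
      have h := (a4 _ hv').trans (b4 _ hv').symm
      simp only [pow_one]
      calc a * b⁻¹ * v * (a * b⁻¹)⁻¹ = a * (b⁻¹ * v * b) * a⁻¹ := by group
        _ = b * (b⁻¹ * v * b) * b⁻¹ := h
        _ = v := by group
  have hJconj : ∀ n ∈ normalizer (U : Set Y), J 2 4 (n * t * n⁻¹) := fun n hn => by
    obtain ⟨h1, h2, h3, h4⟩ := hJt
    refine ⟨hX.conj_mem _ h1 n, mul_mem (mul_mem hn h2) (inv_mem hn), fun u hu => ?_, fun v hv => ?_⟩
    · have hu' : n⁻¹ * u * n ∈ U := (mem_normalizer_iff.1 hn _).2 (by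
        rwa [show n * (n⁻¹ * u * n) * n⁻¹ = u by group])
      have h := hNUZ n hn _ (h3 _ hu')
      rwa [show n * (t * (n⁻¹ * u * n) * t⁻¹ * ((n⁻¹ * u * n) ^ 2)⁻¹) * n⁻¹ =
        n * t * n⁻¹ * u * (n * t * n⁻¹)⁻¹ * (u ^ 2)⁻¹ by rw [pow_two, pow_two]; group] at h
    · have hv' := hNUZ n⁻¹ (inv_mem hn) v hv
      rw [inv_inv] at hv'
      calc n * t * n⁻¹ * v * (n * t * n⁻¹)⁻¹ = n * (t * (n⁻¹ * v * n) * t⁻¹) * n⁻¹ := by group
        _ = v ^ 4 := by rw [h4 _ hv']; simp only [pow_succ, pow_zero, one_mul]; group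
  -- Frattini: an element acting as the torus and normalising `S`
  have hSK : (S : Subgroup Y) ≤ normalizer (K : Set Y) := fun s hs =>
    mem_normalizer_iff.2 fun y => ⟨hKN s (hSU s hs) y, fun hy => by
      simpa [mul_assoc] using hKN s⁻¹ (inv_mem (hSU s hs)) _ hy⟩
  obtain ⟨T, hT⟩ : ∃ T, T = (S : Subgroup Y) ⊔ K := ⟨_, rfl⟩
  have hconjT : ∀ s ∈ (S : Subgroup Y), t * s * t⁻¹ ∈ T := fun s hs => by
    have h1 := hdiff t _ hJt (hJconj s (hSU s hs))
    rw [show t * s * t⁻¹ = t * (s * t * s⁻¹)⁻¹ * s by group, hT]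
    exact mul_mem (mem_sup_right h1) (mem_sup_left hs)
  let Rt : Sylow p Y := t • S
  have hRt : (Rt : Subgroup Y) ≤ T := by
    show ((t • S : Sylow p Y) : Subgroup Y) ≤ T
    rw [Sylow.coe_subgroup_smul]
    rintro _ ⟨s, hs, rfl⟩
    exact hconjT s hs
  have hST : (S : Subgroup Y) ≤ T := hT ▸ le_sup_left
  obtain ⟨⟨r, hr⟩, hr'⟩ := MulAction.exists_smul_eq ↥T (S.subtype hST) (Rt.subtype hRt)
  obtain ⟨s, hs, j, hj, hsj⟩ : ∃ s ∈ (S : Subgroup Y), ∃ j ∈ K, r = j * s := by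
    have h : r ∈ ((K ⊔ (S : Subgroup Y) : Subgroup Y) : Set Y) := by
      rw [SetLike.mem_coe, sup_comm, ← hT]; exact hr
    rw [coe_mul_of_right_le_normalizer_left K (S : Subgroup Y) hSK] at h
    obtain ⟨j, hj, s, hs, e⟩ := Set.mem_mul.1 h
    exact ⟨s, hs, j, hj, e.symm⟩
  have hrS : ∀ y, y ∈ (S : Subgroup Y) → r * y * r⁻¹ ∈ (Rt : Subgroup Y) := fun y hy => by
    have h : (⟨r, hr⟩ * ⟨y, hST hy⟩ * (⟨r, hr⟩ : ↥T)⁻¹) ∈
        (((⟨r, hr⟩ : ↥T) • S.subtype hST : Sylow p ↥T) : Subgroup ↥T) := by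
      rw [Sylow.coe_subgroup_smul]
      exact ⟨⟨y, hST hy⟩, mem_subgroupOf.2 hy, rfl⟩
    rw [hr'] at h
    exact mem_subgroupOf.1 h
  obtain ⟨x, hx⟩ : ∃ x, x = r⁻¹ * t := ⟨_, rfl⟩
  have hxS : x ∈ normalizer ((S : Subgroup Y) : Set Y) := by
    have hsmul : r • S = Rt := Sylow.ext (eq_of_le_of_card_ge (by
      rw [Sylow.coe_subgroup_smul]; rintro _ ⟨y, hy, rfl⟩; exact hrS y hy)
      (by rw [Nat.card_congr (Sylow.equiv (r • S) Rt).toEquiv]))
    refine (Sylow.smul_eq_iff_mem_normalizer).1 ?_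
    rw [hx, mul_smul, show t • S = r • S from hsmul.symm, inv_smul_smul]
  obtain ⟨x', hx'⟩ : ∃ x', x' = j⁻¹ * t := ⟨_, rfl⟩
  have hxx : x' = s * x := by rw [hx', hx, hsj]; group
  have hx'S : x' ∈ normalizer ((S : Subgroup Y) : Set Y) := hxx ▸ mul_mem (hSN hs) hxS
  obtain ⟨hj1, hj2, hj3, hj4⟩ := inv_mem hj
  obtain ⟨ht1, ht2, ht3, ht4⟩ := hJt
  have hx'X : x' ∈ X := hx' ▸ mul_mem hj1 ht1
  have hx'N : x' ∈ normalizer (U : Set Y) := hx' ▸ mul_mem hj2 ht2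
  have hfix : ∀ u ∈ U, x' * u * x'⁻¹ = u → u = 1 := fun u hu hfu => by
    have hu2 : u ^ 2 ∈ U := pow_mem hu 2
    have h1 := hj3 _ hu2
    have h2 := ht3 u hu
    have h2' := hj4 _ h2
    simp only [pow_one] at h1 h2'
    have hm := mul_mem (h2'.symm ▸ h2 : j⁻¹ * (t * u * t⁻¹ * (u ^ 2)⁻¹) * j⁻¹⁻¹ ∈ Z) h1
    rw [show j⁻¹ * (t * u * t⁻¹ * (u ^ 2)⁻¹) * j⁻¹⁻¹ * (j⁻¹ * u ^ 2 * j⁻¹⁻¹ * (u ^ 2)⁻¹) =
      (j⁻¹ * t) * u * (j⁻¹ * t)⁻¹ * (u ^ 2)⁻¹ by group, ← hx', hfu] at hm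
    have huZ : u ∈ Z := by
      rw [pow_two, _root_.mul_inv_rev, mul_inv_cancel_left] at hm
      simpa using inv_mem hm
    have h3 := hj4 _ (pow_mem huZ 4)
    simp only [pow_one] at h3
    have h4 : u = u ^ 4 := by
      conv_lhs => rw [← hfu, hx', show j⁻¹ * t * u * (j⁻¹ * t)⁻¹ = j⁻¹ * (t * u * t⁻¹) * j⁻¹⁻¹ by group,
        ht4 u huZ, h3]
    have h5 : u ^ 3 = 1 := mul_eq_left.1 (show u * u ^ 3 = u by rw [← pow_succ']; exact h4.symm)
    obtain ⟨k, hk⟩ := S.isPGroup' ⟨u, hUS hu⟩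
    have hk' : u ^ p ^ k = 1 := by simpa using congrArg Subtype.val hk
    have h6 : orderOf u ∣ Nat.gcd 3 (p ^ k) :=
      Nat.dvd_gcd (orderOf_dvd_of_pow_eq_one h5) (orderOf_dvd_of_pow_eq_one hk')
    rw [((Nat.coprime_primes Nat.prime_three hp.out).2 (Ne.symm hp3)).pow_right k, Nat.dvd_one,
      orderOf_eq_one_iff] at h6
    exact h6
  -- rigidity
  have hzc : ∀ u ∈ X, z * u = u * z := by
    intro u hu
    have h := G.rigid (MulAut.conjNormal x') (MulAut.conjNormal z)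
      (fun v => by rw [hU', hU', MulAut.conjNormal_apply]; exact (mem_normalizer_iff.1 hx'N v).symm)
      (fun v hv => Subtype.ext (by
        rw [MulAut.conjNormal_apply, hz _ (hSN (mem_subgroupOf.1 hv)), mul_inv_cancel_right]))
      (fun v => Subtype.ext (by
        simp only [MulAut.conjNormal_apply]
        have hc := hz x' hx'S
        calc x' * (z * v * z⁻¹) * x'⁻¹ = (x' * z) * v * (x' * z)⁻¹ := by group
          _ = (z * x') * v * (z * x')⁻¹ := by rw [hc]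
          _ = z * (x' * v * x'⁻¹) * z⁻¹ := by group))
      (fun v hv hfv => Subtype.ext (hfix v ((hU' v).1 hv) (by
        simpa [MulAut.conjNormal_apply] using congrArg Subtype.val hfv)))
      ⟨u, hu⟩
    have h' := congrArg Subtype.val h
    rw [MulAut.conjNormal_apply, mul_inv_eq_iff_eq_mul] at h'
    exact h'
  -- `Y = S X`, so `z` is central
  have hzS : z ∈ (S : Subgroup Y) := mem_sylow_of_commute S hk fun s hs => hz s (hSN hs)
  have htop : (S : Subgroup Y) ⊔ X = ⊤ := by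
    rw [← index_eq_one]
    obtain ⟨n, hn⟩ := IsPGroup.iff_card.1 hquot
    rw [← index_eq_card] at hn
    have h1 : ((S : Subgroup Y) ⊔ X).index ∣ p ^ n := hn ▸ index_dvd_of_le le_sup_right
    have h2 : ((S : Subgroup Y) ⊔ X).index ∣ (S : Subgroup Y).index := index_dvd_of_le le_sup_left
    exact Nat.eq_one_of_dvd_coprimes (((hp.out.coprime_iff_not_dvd).2 S.not_dvd_index).pow_left n) h1 h2
  have hzc' : z ∈ center Y := mem_center_iff.2 fun y => by
    have h : ((S : Subgroup Y) ⊔ X) ≤ centralizer ({z} : Set Y) := sup_le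
      (fun s hs => mem_centralizer_singleton_iff.2 (hz s (hSN hs)).symm)
      (fun u hu => mem_centralizer_singleton_iff.2 (hzc u hu).symm)
    exact mem_centralizer_singleton_iff.1 (h (htop ▸ mem_top y))
  have hnor : (zpowers z).Normal := ⟨fun w hw g => by
    rw [mem_center_iff.1 ((zpowers_le.2 hzc') hw) g, mul_inv_cancel_right]
    exact hw⟩
  have hle : zpowers z ≤ Cfsg.pCore p Y :=
    LEBasic.le_pCore hnor (S.isPGroup'.to_le (zpowers_le.2 hzS))
  rw [hcore] at hle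
  exact mem_bot.1 (hle (mem_zpowers z))

end Cfsg.Agent.TorusCentral
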